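import Mathlib

/-!
Primary decomposition of an element of finite order.
-/

namespace CfsgLib.PrimaryParts

variable {G : Type*} [Group G] [Finite G]

/-- For every prime `p` some power of `g` with exponent prime to `p` has `p`-power order. -/
theorem exists_pow_primePow (p : ℕ) (hp : p.Prime) (g : G) :
    ∃ m k : ℕ, ¬ p ∣ m ∧ orderOf (g ^ m) = p ^ k := by
  have hn : orderOf g ≠ 0 := (orderOf_pos g).ne'
  refine ⟨ordCompl[p] (orderOf g), (orderOf g).factorization p, Nat.not_dvd_ordCompl hp hn, ?_⟩
  rw [orderOf_pow' g (Nat.ordCompl_pos p hn).ne',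
    Nat.gcd_eq_right (Nat.ordCompl_dvd _ _)]
  exact Nat.div_eq_of_eq_mul_left (Nat.ordCompl_pos p hn)
    (Nat.ordProj_mul_ordCompl_eq_self _ p).symm

/-- A subgroup containing every prime power order power of `x` contains `x`. -/
theorem mem_of_primePow_parts {H : Subgroup G} {x : G}
    (h : ∀ y ∈ Subgroup.zpowers x, ∀ p k : ℕ, p.Prime → orderOf y = p ^ k → y ∈ H) : x ∈ H := by
  suffices ∀ n : ℕ, ∀ y ∈ Subgroup.zpowers x, orderOf y = n → y ∈ H from
    this _ x (Subgroup.mem_zpowers x) rfl
  intro n
  induction n using Nat.strong_induction_on with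
  | _ n ih =>
    intro y hy hn
    by_cases h1 : n = 1
    · rw [h1, orderOf_eq_one_iff] at hn
      rw [hn]
      exact H.one_mem
    · have hn0 : n ≠ 0 := hn ▸ (orderOf_pos y).ne'
      have hp : n.minFac.Prime := Nat.minFac_prime h1
      set p := n.minFac
      set a := ordProj[p] n
      set b := ordCompl[p] n
      have hab : a * b = n := Nat.ordProj_mul_ordCompl_eq_self n p
      have ha1 : 1 < a := Nat.one_lt_pow
        (hp.factorization_pos_of_dvd hn0 (Nat.minFac_dvd n)).ne' hp.one_lt
      have hb0 : 0 < b := Nat.ordCompl_pos p hn0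
      have hya : y ^ a ∈ H := by
        refine ih b ?_ _ (Subgroup.pow_mem _ hy a) ?_
        · calc b = 1 * b := (one_mul b).symm
            _ < a * b := Nat.mul_lt_mul_of_pos_right ha1 hb0
            _ = n := hab
        · rw [orderOf_pow' y (by omega), hn, Nat.gcd_eq_right (Nat.ordProj_dvd n p)]
      have hyb : y ^ b ∈ H := by
        refine h _ (Subgroup.pow_mem _ hy b) p (n.factorization p) hp ?_
        rw [orderOf_pow' y hb0.ne', hn, Nat.gcd_eq_right (Nat.ordCompl_dvd n p)]
        exact Nat.div_eq_of_eq_mul_left hb0 hab.symm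
      have hcop : Nat.gcd a b = 1 := (Nat.coprime_ordCompl hp hn0).pow_left _
      have key := Nat.gcd_eq_gcd_ab a b
      rw [hcop] at key
      have : y = (y ^ a) ^ Nat.gcdA a b * (y ^ b) ^ Nat.gcdB a b := by
        rw [← zpow_natCast y a, ← zpow_natCast y b, ← zpow_mul, ← zpow_mul, ← zpow_add, ← key]
        simp
      rw [this]
      exact H.mul_mem (H.zpow_mem hya _) (H.zpow_mem hyb _)

/-- In a finite group, `g` normalises `H` once conjugation by `g` maps `H` into itself. -/
theorem mem_normalizer_of_conj_mem {H : Subgroup G} {g : G} (h : ∀ w ∈ H, g * w * g⁻¹ ∈ H) :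
    g ∈ Subgroup.normalizer (H : Set G) := by
  rw [Subgroup.mem_normalizer_iff]
  let f : H → H := fun w => ⟨g * w * g⁻¹, h w w.2⟩
  have hf : Function.Injective f := fun a b hab => by
    simpa [f] using hab
  intro w
  refine ⟨h w, fun hw => ?_⟩
  obtain ⟨⟨v, hv⟩, hvw⟩ := Finite.injective_iff_surjective.mp hf ⟨_, hw⟩
  simp only [f, Subtype.mk.injEq, mul_left_inj, mul_right_inj] at hvw
  rwa [← hvw]

end CfsgLib.PrimaryParts
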